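import Groth.Statements.S15880
import Mathlib

/-!
# Affine morphisms with free direct image of the structure sheaf are constant
-/

set_option autoImplicit false
set_option linter.style.haveILetI false
set_option backward.isDefEq.respectTransparency false
set_option backward.isDefEq.respectTransparency.types false

universe u

open CategoryTheory CategoryTheory.Limits AlgebraicGeometry TensorProduct Opposite

namespace Groth.Agent.FreeAlgP

theorem isPushout_of_basis {K S A B : CommRingCat.{u}} (φ : K ⟶ S) (ψ : K ⟶ A) (σ : S ⟶ B) (ρ : A ⟶ B)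
    (w : φ ≫ σ = ψ ≫ ρ) {ι : Type} [Fintype ι] [DecidableEq ι] (b : ι → A) (pA : ι → A → K) (pB : ι → B → S)
    (hAadd : ∀ i x y, pA i (x + y) = pA i x + pA i y) (hAmul : ∀ i r x, pA i (ψ r * x) = r * pA i x)
    (hBadd : ∀ i x y, pB i (x + y) = pB i x + pB i y) (hBmul : ∀ i r x, pB i (σ r * x) = r * pB i x)
    (hA : ∀ x, ∑ i, ψ (pA i x) * b i = x) (hA' : ∀ i j, pA j (b i) = if i = j then 1 else 0)
    (hB : ∀ x, ∑ i, σ (pB i x) * ρ (b i) = x) (hB' : ∀ i j, pB j (ρ (b i)) = if i = j then 1 else 0) :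
    IsPushout φ ψ σ ρ := by
  algebraize [φ.hom, ψ.hom, σ.hom, ρ.hom, σ.hom.comp φ.hom]
  haveI : IsScalarTower K A B := .of_algebraMap_eq fun x => congrArg (fun q : K ⟶ B => q x) w
  refine CommRingCat.isPushout_iff_isPushout.mpr ?_
  let eA : A ≃ₗ[K] (ι → K) :=
    { toFun := fun x i => pA i x
      invFun := fun c => ∑ i, ψ (c i) * b i
      map_add' := fun x y => funext fun i => hAadd i x y
      map_smul' := fun r x => funext fun i => by
        show pA i (r • x) = r * pA i x
        rw [Algebra.smul_def]; exact hAmul i r x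
      left_inv := hA
      right_inv := fun c => funext fun j => by
        show pA j (∑ i, ψ (c i) * b i) = c j
        rw [show pA j (∑ i, ψ (c i) * b i) = ∑ i, pA j (ψ (c i) * b i) from
          map_sum (AddMonoidHom.mk' (pA j) (hAadd j)) _ _]
        simp [hAmul, hA'] }
  let eB : B ≃ₗ[S] (ι → S) :=
    { toFun := fun x i => pB i x
      invFun := fun c => ∑ i, σ (c i) * ρ (b i)
      map_add' := fun x y => funext fun i => hBadd i x y
      map_smul' := fun r x => funext fun i => by
        show pB i (r • x) = r * pB i x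
        rw [Algebra.smul_def]; exact hBmul i r x
      left_inv := hB
      right_inv := fun c => funext fun j => by
        show pB j (∑ i, σ (c i) * ρ (b i)) = c j
        rw [show pB j (∑ i, σ (c i) * ρ (b i)) = ∑ i, pB j (σ (c i) * ρ (b i)) from
          map_sum (AddMonoidHom.mk' (pB j) (hBadd j)) _ _]
        simp [hBmul, hB'] }
  let bA : Module.Basis ι K A := Module.Basis.ofEquivFun eA
  let bB : Module.Basis ι S B := Module.Basis.ofEquivFun eB
  have hbA : ∀ i, bA i = b i := fun i => by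
    simp [bA, eA, Module.Basis.coe_ofEquivFun, Pi.single_apply, Finset.sum_ite_eq', apply_ite]
  have hbB : ∀ i, bB i = ρ (b i) := fun i => by
    simp [bB, eB, Module.Basis.coe_ofEquivFun, Pi.single_apply, Finset.sum_ite_eq', apply_ite]
  let e : S ⊗[K] A ≃ₗ[S] B := (Algebra.TensorProduct.basis S bA).equiv bB (Equiv.refl _)
  refine ⟨IsBaseChange.of_equiv e fun x => ?_⟩
  have heq : (e.toLinearMap.restrictScalars K).comp (TensorProduct.mk K S A 1) =
      (IsScalarTower.toAlgHom K A B).toLinearMap := by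
    refine bA.ext fun i => ?_
    show e (1 ⊗ₜ bA i) = ρ (bA i)
    rw [← Algebra.TensorProduct.basis_apply (A := S) bA i, Module.Basis.equiv_apply, hbA, hbB]
    rfl
  exact LinearMap.congr_fun heq x

variable {F P : Scheme.{u}} (f : F ⟶ P) {d : ℕ}
  (e : (Scheme.Modules.pushforward f).obj (SheafOfModules.unit F.ringCatSheaf) ≅
    ∐ fun _ : ULift.{u} (Fin d) => (SheafOfModules.unit P.ringCatSheaf : P.Modules))

include e in
theorem exists_coords :
    ∃ (b : Fin d → Γ(F, ⊤)) (p : ∀ U : P.Opens, Fin d → Γ(F, f ⁻¹ᵁ U) → Γ(P, U)),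
      ∀ U : P.Opens, (∀ i x y, p U i (x + y) = p U i x + p U i y) ∧
        (∀ i r x, p U i (f.app U r * x) = r * p U i x) ∧
        (∀ x, ∑ i, f.app U (p U i x) * F.presheaf.map (homOfLE le_top).op (b i) = x) ∧
        (∀ i j, p U j (F.presheaf.map (homOfLE le_top).op (b i)) = if i = j then 1 else 0) := by
  classical
  let O : P.Modules := SheafOfModules.unit P.ringCatSheaf
  let M : P.Modules := (Scheme.Modules.pushforward f).obj (SheafOfModules.unit F.ringCatSheaf)
  let ι' : Fin d → (O ⟶ M) := fun i => Sigma.ι (fun _ : ULift.{u} (Fin d) => O) ⟨i⟩ ≫ e.inv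
  let π' : Fin d → (M ⟶ O) := fun i => e.hom ≫
    Sigma.desc (f := fun _ : ULift.{u} (Fin d) => O) fun j => if j.down = i then 𝟙 O else 0
  have hsum : ∑ i, π' i ≫ ι' i = 𝟙 M := by
    rw [← cancel_mono e.hom, ← cancel_epi e.inv]
    refine Sigma.hom_ext _ _ fun j => ?_
    simp only [π', ι', Preadditive.comp_sum, Preadditive.sum_comp, Category.assoc, Iso.inv_hom_id_assoc,
      Iso.inv_hom_id, Category.comp_id, Category.id_comp, Sigma.ι_desc_assoc]
    rw [Finset.sum_eq_single j.down (fun i _ hi => by rw [if_neg (Ne.symm hi), zero_comp]) (by simp)]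
    rw [if_pos rfl]
    exact Category.id_comp _
  have hδ : ∀ i j, ι' i ≫ π' j = if i = j then 𝟙 O else 0 := fun i j => by
    simp [π', ι']
  let sec : ∀ U : P.Opens, Fin d → Γ(F, f ⁻¹ᵁ U) := fun U i => (ι' i).app U (1 : Γ(P, U))
  let b : Fin d → Γ(F, ⊤) := sec ⊤
  have hres : ∀ U i, F.presheaf.map (homOfLE le_top).op (b i) = sec U i := by
    intro U i
    have h := congrArg (fun q => q (1 : Γ(P, ⊤))) ((ι' i).mapPresheaf.naturality (homOfLE (le_top : U ≤ ⊤)).op)
    refine h.symm.trans ?_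
    exact congrArg ((ι' i).app U) (map_one (P.presheaf.map (homOfLE (le_top : U ≤ ⊤)).op).hom)
  refine ⟨b, fun U i x => (π' i).app U x, fun U => ⟨fun i x y => map_add ((π' i).app U).hom x y,
    fun i r x => Scheme.Modules.Hom.app_smul (π' i) r x, fun x => ?_, fun i j => ?_⟩⟩
  · have h := congrArg (fun q : M ⟶ M => q.app U x) hsum
    refine Eq.trans ?_ h
    have hs : ∀ s : Finset (Fin d), (∑ i ∈ s, π' i ≫ ι' i).app U x =
        ∑ i ∈ s, (ι' i).app U ((π' i).app U x) := by
      intro s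
      induction s using Finset.induction_on with
      | empty => simp
      | insert a s ha ih => rw [Finset.sum_insert ha, Finset.sum_insert ha, ← ih]; rfl
    rw [hs]
    refine Finset.sum_congr rfl fun i _ => ?_
    rw [hres]
    refine ((Scheme.Modules.Hom.app_smul (ι' i) ((π' i).app U x) (1 : Γ(P, U))).symm.trans ?_)
    exact congrArg ((ι' i).app U) (mul_one (show Γ(P, U) from (π' i).app U x))
  · rw [hres]
    have h := congrArg (fun q : O ⟶ O => q.app U (1 : Γ(P, U))) (hδ i j)
    refine h.trans ?_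
    split_ifs <;> rfl

include e in
theorem isPullback_toSpecΓ [IsAffineHom f] :
    IsPullback f F.toSpecΓ P.toSpecΓ (Spec.map f.appTop) := by
  classical
  obtain ⟨b, p, hp⟩ := exists_coords f e
  refine Scheme.isPullback_of_openCover _ _ _ _
    (P.openCoverOfIsOpenCover (fun U : P.affineOpens => U.1) (iSup_affineOpens_eq_top P)) fun U => ?_
  have hU : IsAffineOpen U.1 := U.2
  have hV : IsAffineOpen (f ⁻¹ᵁ U.1) := hU.preimage f
  have hpush : IsPushout (P.presheaf.map (homOfLE (le_top : U.1 ≤ ⊤)).op) f.appTop (f.app U.1)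
      (F.presheaf.map (homOfLE (le_top : f ⁻¹ᵁ U.1 ≤ ⊤)).op) := by
    refine isPushout_of_basis _ _ _ _ ?_ b (p ⊤) (p U.1) (hp ⊤).1 (hp ⊤).2.1 (hp U.1).1 (hp U.1).2.1
      (fun x => ?_) (fun i j => ?_) (hp U.1).2.2.1 (hp U.1).2.2.2
    · exact f.naturality (homOfLE (le_top : U.1 ≤ ⊤)).op
    · have h := (hp ⊤).2.2.1 x
      simpa using h
    · have h := (hp ⊤).2.2.2 i j
      simpa using h
  have hsq : IsPullback (f ∣_ U.1) ((f ⁻¹ᵁ U.1).ι ≫ F.toSpecΓ) (U.1.ι ≫ P.toSpecΓ) (Spec.map f.appTop) := by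
    haveI : IsIso (f ⁻¹ᵁ U.1).toSpecΓ := by rw [← hV.isoSpec_hom]; infer_instance
    haveI : IsIso U.1.toSpecΓ := by rw [← hU.isoSpec_hom]; infer_instance
    refine (isPullback_SpecMap_of_isPushout _ _ _ _ hpush).of_iso (asIso (f ⁻¹ᵁ U.1).toSpecΓ).symm
      (asIso U.1.toSpecΓ).symm (Iso.refl _) (Iso.refl _) ?_ ?_ ?_ ?_
    · rw [Iso.symm_hom, Iso.symm_hom, asIso_inv, asIso_inv, IsIso.eq_inv_comp, ← Category.assoc, IsIso.comp_inv_eq,
        Scheme.Opens.toSpecΓ_naturality]
    · rw [Iso.symm_hom, asIso_inv, IsIso.eq_inv_comp, Iso.refl_hom, Category.comp_id]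
      exact Scheme.Opens.toSpecΓ_SpecMap_presheaf_map_top _
    · rw [Iso.symm_hom, asIso_inv, IsIso.eq_inv_comp, Iso.refl_hom, Category.comp_id]
      exact Scheme.Opens.toSpecΓ_SpecMap_presheaf_map_top _
    · simp
  refine hsq.of_iso (pullbackRestrictIsoRestrict f U.1).symm (Iso.refl _) (Iso.refl _) (Iso.refl _) ?_ ?_
    (by simp [Scheme.openCoverOfIsOpenCover]) (by simp)
  · rw [Iso.symm_hom, Iso.refl_hom, Category.comp_id]
    rfl
  · rw [Iso.symm_hom, Iso.refl_hom, Category.comp_id]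
    exact (pullbackRestrictIsoRestrict_inv_fst_assoc ..).symm

end Groth.Agent.FreeAlgP
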